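import Groth.Agent.ModPairProd.Adm
import Mathlib.AlgebraicGeometry.Morphisms.ClosedImmersion

/-!
# Closures of closed subschemes of the interior
-/

set_option autoImplicit false
set_option backward.isDefEq.respectTransparency false
set_option linter.style.haveILetI false

universe u

open CategoryTheory AlgebraicGeometry Limits TopologicalSpace

namespace Groth.Agent.ModPairVal

open ModPairFrac BlowUpLib ModPair ModPairProd

variable {X S V : Scheme.{u}}

theorem cartier_image' (I : S.IdealSheafData) (hI : BlowUp.IsEffCartierIdeal I) (k : V ⟶ S)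
    (hk : ∀ v, k v ∈ interior I) : BlowUp.IsEffCartierIdeal (I.comap k.imageι) := by
  let W := k.imageι ⁻¹ᵁ interior I
  have hr : Set.range k.toImage ⊆ Set.range W.ι := by
    rintro _ ⟨x, rfl⟩
    rw [Scheme.Opens.range_ι]
    show k.imageι (k.toImage x) ∈ interior I
    rw [← Scheme.Hom.comp_apply, Scheme.Hom.toImage_imageι]
    exact hk x
  have hker : W.ι.ker = ⊥ := by
    have := (IsOpenImmersion.lift W.ι k.toImage hr).le_ker_comp W.ι
    rw [IsOpenImmersion.lift_fac, ker_toImage] at this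
    exact le_bot_iff.1 this
  haveI : IsSchemeTheoreticallyDominant W.ι := ⟨hker⟩
  exact cartier_of_schDominant I hI _

theorem exists_generization (I : S.IdealSheafData) (hI : BlowUp.IsEffCartierIdeal I) (s : S) :
    ∃ u ∈ interior I, u ⤳ s := by
  obtain ⟨U, hsU, a, ha, he⟩ := hI s
  let P := U.2.primeIdealOf ⟨s, hsU⟩
  obtain ⟨p, hp, hpP⟩ := Ideal.exists_minimalPrimes_le (bot_le : (⊥ : Ideal Γ(S, U.1)) ≤ P.asIdeal)
  haveI : p.IsPrime := hp.1.1
  have hap : a ∉ p := fun h =>
    Set.disjoint_left.1 (Ideal.disjoint_nonZeroDivisors_of_mem_minimalPrimes hp) h ha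
  let q : Spec Γ(S, U.1) := ⟨p, inferInstance⟩
  refine ⟨U.2.fromSpec q, ?_, ?_⟩
  · have h1 : U.2.fromSpec.base q ∈ S.basicOpen a := by
      show q ∈ U.2.fromSpec ⁻¹ᵁ S.basicOpen a
      rw [U.2.fromSpec_preimage_basicOpen]; exact hap
    exact (mem_basicOpen_of_notMem_support he (S.basicOpen_le a h1)).2 h1
  · rw [show s = U.2.fromSpec.base P from (IsAffineOpen.fromSpec_primeIdealOf U.2 ⟨s, hsU⟩).symm]
    exact ((PrimeSpectrum.le_iff_specializes q P).1 hpP).map U.2.fromSpec.continuous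

theorem isOpenImmersion_toImage (U : S.Opens) [QuasiCompact U.ι] (g : V ⟶ U.toScheme) [IsClosedImmersion g] :
    IsOpenImmersion (g ≫ U.ι).toImage ∧
      Set.range (g ≫ U.ι).toImage.base = (g ≫ U.ι).imageι.base ⁻¹' (U : Set S) := by
  set k := g ≫ U.ι
  let W := k.imageι ⁻¹ᵁ U
  have htop : k.toImage ⁻¹ᵁ W = ⊤ := by
    rw [← Scheme.Hom.comp_preimage, Scheme.Hom.toImage_imageι]
    exact eq_top_iff.2 fun v _ => (g v).2
  let r := k.toImage ∣_ W
  have hker : r.ker = ⊥ := by
    refine Scheme.IdealSheafData.ext (funext fun O => ?_)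
    rw [Scheme.ker_morphismRestrict_ideal, ker_toImage, Scheme.IdealSheafData.ideal_bot,
      Scheme.IdealSheafData.ideal_bot]
    rfl
  haveI : IsClosedImmersion (r ≫ (k.imageι ∣_ U)) := by
    have e : (k.toImage ⁻¹ᵁ W).ι ≫ g = r ≫ (k.imageι ∣_ U) := by
      rw [← cancel_mono U.ι, Category.assoc, Category.assoc, morphismRestrict_ι, morphismRestrict_ι_assoc,
        Scheme.Hom.toImage_imageι]
    rw [← e]
    haveI : IsIso (k.toImage ⁻¹ᵁ W).ι := by rw [htop, ← Scheme.topIso_hom]; infer_instance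
    infer_instance
  haveI : IsClosedImmersion r := IsClosedImmersion.of_comp r (k.imageι ∣_ U)
  haveI : IsIso r := by
    let l := IsClosedImmersion.lift r (𝟙 _) (by rw [hker]; exact bot_le)
    haveI : IsSplitEpi r := IsSplitEpi.mk' ⟨l, IsClosedImmersion.lift_fac _ _ _⟩
    exact isIso_of_mono_of_isSplitEpi _
  haveI : IsIso (k.toImage ⁻¹ᵁ W).ι := by rw [htop, ← Scheme.topIso_hom]; infer_instance
  have e2 : k.toImage = inv (k.toImage ⁻¹ᵁ W).ι ≫ r ≫ W.ι := by
    rw [morphismRestrict_ι, IsIso.inv_hom_id_assoc]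
  refine ⟨by rw [e2]; infer_instance, ?_⟩
  show _ = (W : Set k.image)
  rw [e2, Scheme.Hom.comp_base, TopCat.coe_comp, Scheme.Hom.comp_base, TopCat.coe_comp, ← Scheme.Opens.range_ι W]
  rw [Set.range_comp, Set.range_eq_univ.2 (inv (k.toImage ⁻¹ᵁ W).ι).surjective, Set.image_univ, Set.range_comp,
    Set.range_eq_univ.2 r.surjective, Set.image_univ]

theorem closure_of_closed_cover (I : S.IdealSheafData) (hI : BlowUp.IsEffCartierIdeal I) {ι : Type u}
    (V : ι → Scheme.{u}) (g : ∀ i, V i ⟶ (interior I : Scheme.{u})) [∀ i, IsClosedImmersion (g i)]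
    (hsurj : ∀ u : (interior I : Scheme.{u}), ∃ (i : ι) (v : V i), (g i).base v = u) :
    (∀ s : S, ∃ (i : ι) (v : (g i ≫ (interior I).ι).image), (g i ≫ (interior I).ι).imageι.base v = s) ∧
      (∀ i, BlowUp.IsEffCartierIdeal (I.comap (g i ≫ (interior I).ι).imageι)) ∧
      ∀ i, IsOpenImmersion (g i ≫ (interior I).ι).toImage ∧
        Set.range (g i ≫ (interior I).ι).toImage.base =
          (g i ≫ (interior I).ι).imageι.base ⁻¹' (interior I : Set S) := by
  haveI : QuasiCompact (interior I).ι := AlmostBlow.quasiCompact_awayFrom_ι (isLocPrincipal_of_cartier hI)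
  refine ⟨fun s => ?_, fun i => cartier_image' I hI _ fun v => (g i v).2, fun i => isOpenImmersion_toImage _ _⟩
  obtain ⟨u, hu, hus⟩ := exists_generization I hI s
  obtain ⟨i, v, hv⟩ := hsurj ⟨u, hu⟩
  let k := g i ≫ (interior I).ι
  have hmem : u ∈ Set.range k.imageι :=
    ⟨k.toImage v, by rw [← Scheme.Hom.comp_apply, Scheme.Hom.toImage_imageι]; exact congrArg Subtype.val hv⟩
  obtain ⟨w, hw⟩ := hus.mem_closed k.imageι.isClosedEmbedding.isClosed_range hmem
  exact ⟨i, w, hw⟩

end Groth.Agent.ModPairVal
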