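import Groth.Agent.BlowUpExist.Affine
import Groth.Agent.BlowUpLib.Cartier
import Groth.Prelude.Def_W4c6modpairsegaMP
import Mathlib.AlgebraicGeometry.AffineTransitionLimit

/-!
# Effective Cartier moduli pass to limits along affine minimal transitions
-/

set_option autoImplicit false
set_option backward.isDefEq.respectTransparency false
set_option linter.style.haveILetI false

universe u

open CategoryTheory AlgebraicGeometry Limits TopologicalSpace

namespace Groth.Agent.ModPairVal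

open BlowUpLib

theorem eq_zero_of_mul_generator {X : Scheme.{u}} {J : X.IdealSheafData} (hJ : BlowUp.IsEffCartierIdeal J)
    {U : X.affineOpens} {a : Γ(X, U.1)} (he : J.ideal U = Ideal.span {a}) :
    a ∈ nonZeroDivisors Γ(X, U.1) := by
  suffices h : ∀ z, z * a = 0 → z = 0 from ⟨fun z hz => h z ((mul_comm z a).trans hz), h⟩
  intro z hz
  refine TopCat.Presheaf.section_ext X.sheaf U.1 _ _ fun x hx => ?_
  obtain ⟨V, hxV, hVU, f, hf, hef⟩ := exists_small_generator hJ hx
  let r := (X.presheaf.map (homOfLE hVU).op).hom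
  have h1 : Ideal.span {f} = Ideal.span {r a} := by
    rw [← hef, ← J.map_ideal (U := V) (V := U) hVU, he, Ideal.map_span, Set.image_singleton]; rfl
  obtain ⟨c, hc⟩ := Ideal.mem_span_singleton'.1 (h1 ▸ Ideal.mem_span_singleton_self f)
  have hra : r a ∈ nonZeroDivisors _ := (mul_mem_nonZeroDivisors.1 (hc ▸ hf)).2
  have h2 : r z = 0 := hra.2 _ (by rw [← map_mul, hz, map_zero])
  have := congrArg (X.presheaf.germ V.1 x hxV) h2
  rw [map_zero] at this
  exact ((TopCat.Presheaf.germ_res_apply _ _ _ _ _).symm.trans this).trans (map_zero _).symm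

variable {I : Type u} [SmallCategory I] [IsCofiltered I] (D : I ⥤ Scheme.{u}) (c : Cone D) (hc : IsLimit c)

include hc in
theorem nzd_appTop_of_isAffine [∀ i, IsAffine (D.obj i)] (i : I) (a : Γ(D.obj i, ⊤))
    (ha : ∀ (j : I) (t : j ⟶ i), (D.map t).appTop a ∈ nonZeroDivisors Γ(D.obj j, ⊤)) :
    (c.π.app i).appTop a ∈ nonZeroDivisors Γ(c.pt, ⊤) := by
  suffices h : ∀ z, z * (c.π.app i).appTop a = 0 → z = 0 from ⟨fun z hz => h z ((mul_comm z _).trans hz), h⟩
  intro z hz
  obtain ⟨j, t, ht⟩ := exists_appTop_π_eq_of_isAffine_of_isLimit D c hc z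
  obtain ⟨k, u, v, -⟩ : ∃ (k : I) (u : k ⟶ i) (v : k ⟶ j), True :=
    ⟨IsCofiltered.min i j, IsCofiltered.minToLeft i j, IsCofiltered.minToRight i j, trivial⟩
  have hw : ∀ {p q : I} (w : p ⟶ q) (y : Γ(D.obj q, ⊤)),
      (c.π.app p).appTop ((D.map w).appTop y) = (c.π.app q).appTop y := fun {p q} w y => by
    rw [← ConcreteCategory.comp_apply, ← Scheme.Hom.comp_appTop, c.w]; rfl
  have h0 : (c.π.app k).appTop ((D.map v).appTop t * (D.map u).appTop a) = 0 := by
    rw [map_mul, hw, hw, ht, hz]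
  obtain ⟨l, w, hl⟩ := exists_appTop_map_eq_zero_of_isAffine_of_isLimit D c hc k _ h0
  rw [map_mul, show (D.map w).appTop ((D.map u).appTop a) = (D.map (w ≫ u)).appTop a by
    rw [D.map_comp, Scheme.Hom.comp_appTop]; rfl] at hl
  rw [← ht, ← hw (w ≫ v), show (D.map (w ≫ v)).appTop t = (D.map w).appTop ((D.map v).appTop t) by
    rw [D.map_comp, Scheme.Hom.comp_appTop]; rfl, (ha l (w ≫ u)).2 _ hl, map_zero]

include hc in
theorem cartier_limit [∀ (i j : I) (t : i ⟶ j), IsAffineHom (D.map t)] (J : ∀ i, (D.obj i).IdealSheafData)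
    (hJ : ∀ i, BlowUp.IsEffCartierIdeal (J i))
    (hmin : ∀ (i j : I) (t : i ⟶ j), J i = (J j).comap (D.map t)) (i : I) :
    BlowUp.IsEffCartierIdeal ((J i).comap (c.π.app i)) := by
  haveI : ∀ {i j : I} (f : i ⟶ j), IsAffineHom (D.map f) := fun f => inferInstance
  haveI : IsAffineHom (c.π.app i) := isAffineHom_π_app D c hc i
  intro x
  obtain ⟨U, hxU, a, -, he⟩ := hJ i (c.π.app i x)
  let V : c.pt.affineOpens := ⟨c.π.app i ⁻¹ᵁ U.1, U.2.preimage _⟩
  haveI hD : ∀ j, IsAffine ((opensDiagram D i U.1).obj j) := fun j => U.2.preimage _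
  let q : ∀ j : Over i, (opensDiagram D i U.1).obj j ⟶ D.obj i := fun j =>
    (opensDiagramι D i U.1).app j ≫ D.map j.hom
  have hq : ∀ j : Over i, (⊤ : ((opensDiagram D i U.1).obj j).Opens) ≤ q j ⁻¹ᵁ U.1 := fun j z _ => z.2
  have hqw : ∀ {j k : Over i} (t : j ⟶ k), (opensDiagram D i U.1).map t ≫ q k = q j := fun {j k} t => by
    simp only [q, ← Category.assoc, (opensDiagramι D i U.1).naturality t]
    simp only [Category.assoc, Functor.comp_map, Over.forget_map, ← D.map_comp, Over.w t]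
  let a' : ∀ j : Over i, Γ((opensDiagram D i U.1).obj j, ⊤) := fun j => ((q j).appLE U.1 ⊤ (hq j)).hom a
  have hideal : ∀ j : Over i, ((J i).comap (q j)).ideal ⟨⊤, isAffineOpen_top _⟩ = Ideal.span {a' j} := fun j => by
    rw [FpqcDescent.ideal_comap_appLE (J i) (q j) U ⟨⊤, isAffineOpen_top _⟩ (hq j), he, Ideal.map_span,
      Set.image_singleton]
  have hnat : ∀ {j k : Over i} (t : j ⟶ k), ((opensDiagram D i U.1).map t).appTop (a' k) = a' j := fun {j k} t => by
    simp only [a', Scheme.Hom.appTop, Scheme.Hom.app_eq_appLE]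
    rw [← ConcreteCategory.comp_apply, Scheme.Hom.appLE_comp_appLE]
    exact congrArg (fun φ : Γ(D.obj i, U.1) ⟶ _ => φ.hom a) (FpqcDescent.appLE_congr (hqw t) _ _ _ _)
  have hnz := nzd_appTop_of_isAffine (opensDiagram D i U.1) (opensCone D c i U.1)
    (isLimitOpensCone D c hc i U.1) (Over.mk (𝟙 i)) (a' _) fun j t => by
    rw [hnat t]
    refine eq_zero_of_mul_generator ?_ (hideal j)
    rw [Scheme.IdealSheafData.comap_comp, ← hmin j.left i j.hom]
    exact cartier_comap_flat (hJ j.left) _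
  let j₀ : Over i := Over.mk (𝟙 i)
  let r : (opensCone D c i U.1).pt ⟶ D.obj i := V.1.ι ≫ c.π.app i
  have hr : (opensCone D c i U.1).π.app j₀ ≫ q j₀ = r := by
    simp [r, q, j₀, V]
  have hrle : (⊤ : (opensCone D c i U.1).pt.Opens) ≤ r ⁻¹ᵁ U.1 := fun z _ => z.2
  haveI : IsAffine (opensCone D c i U.1).pt := V.2
  have e1 : ((J i).comap r).ideal ⟨⊤, isAffineOpen_top _⟩ =
      Ideal.span {((opensCone D c i U.1).π.app j₀).appTop (a' j₀)} := by
    rw [FpqcDescent.ideal_comap_appLE (J i) r U _ hrle, he, Ideal.map_span, Set.image_singleton]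
    congr 2
    simp only [a', Scheme.Hom.appTop, Scheme.Hom.app_eq_appLE]
    rw [← ConcreteCategory.comp_apply, Scheme.Hom.appLE_comp_appLE]
    exact congrArg (fun φ : Γ(D.obj i, U.1) ⟶ _ => φ.hom a) (FpqcDescent.appLE_congr hr.symm _ _ _ _)
  haveI : IsAffine V.1.toScheme := V.2
  have hcart : BlowUp.IsEffCartierIdeal ((J i).comap r) := fun z => ⟨⟨⊤, isAffineOpen_top _⟩, trivial, _, hnz, e1⟩
  rw [Scheme.IdealSheafData.comap_comp] at hcart
  obtain ⟨W, hxW, f, hf, hfW⟩ := hcart ⟨x, hxU⟩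
  refine ⟨⟨V.1.ι ''ᵁ W.1, W.2.image_of_isOpenImmersion _⟩, ⟨⟨x, hxU⟩, hxW, rfl⟩, ?_⟩
  rw [Scheme.IdealSheafData.ideal_comap_of_isOpenImmersion] at hfW
  let e := (V.1.ι.appIso W.1).symm.commRingCatIsoToRingEquiv
  refine ⟨e f, ?_, ?_⟩
  · suffices h' : ∀ z, z * e f = 0 → z = 0 from ⟨fun z hz => h' z ((mul_comm z (e f)).trans hz), h'⟩
    intro z hz
    obtain ⟨z, rfl⟩ := e.surjective z
    rw [← map_mul, map_eq_zero_iff _ e.injective] at hz
    rw [hf.2 z hz, map_zero]
  · refine (Ideal.map_comap_of_surjective (V.1.ι.appIso W.1).inv.hom e.surjective _).symm.trans ?_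
    refine (congrArg (Ideal.map (V.1.ι.appIso W.1).inv.hom) hfW).trans ?_
    rw [Ideal.map_span, Set.image_singleton]
    rfl

end Groth.Agent.ModPairVal
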