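import Groth.Agent.ModPairProd.Div

/-!
# Moduli detected by valuation rings; minimal locus
-/

set_option autoImplicit false
set_option backward.isDefEq.respectTransparency false
set_option linter.style.haveILetI false

universe u

open CategoryTheory AlgebraicGeometry Limits TopologicalSpace

namespace Groth.Agent.ModPairVal

open ModPairFrac BlowUpLib ModPair

theorem exists_valuation {A : Type u} [CommRing A] {a : A} (ha : a ∈ nonZeroDivisors A) (q : Ideal A)
    [q.IsPrime] : ∃ (V : Type u) (_ : CommRing V) (_ : IsDomain V) (_ : ValuationRing V) (ψ : A →+* V),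
      ψ a ≠ 0 ∧ (∀ s ∉ q, IsUnit (ψ s)) ∧ (∀ b ∈ q, ¬ IsUnit (ψ b)) ∧
        ∀ P : Ideal V, P.IsPrime → (ψ a ∉ P ↔ P = ⊥) := by
  obtain ⟨p, hp, hpq⟩ := Ideal.exists_minimalPrimes_le (bot_le : (⊥ : Ideal A) ≤ q)
  haveI : p.IsPrime := hp.1.1
  have hap : a ∉ p := fun h =>
    Set.disjoint_left.1 (Ideal.disjoint_nonZeroDivisors_of_mem_minimalPrimes hp) h ha
  let L := FractionRing (A ⧸ p)
  let f₀ : A →+* L := (algebraMap (A ⧸ p) L).comp (Ideal.Quotient.mk p)
  have hf₀ : ∀ x, f₀ x = 0 ↔ x ∈ p := fun x => by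
    simp [f₀, Ideal.Quotient.eq_zero_iff_mem]
  let f₁ : Localization.AtPrime q →+* L := IsLocalization.lift (M := q.primeCompl) (g := f₀) fun s =>
    IsUnit.mk0 _ fun h => s.2 (hpq ((hf₀ _).1 h))
  obtain ⟨B, hB, hloc⟩ := IsLocalRing.exists_factor_valuationRing f₁
  let g : A →+* B := (f₁.codRestrict B.toSubring hB).comp (algebraMap A _)
  have hg0 : g a ≠ 0 := fun h => hap ((hf₀ a).1
    (((IsLocalization.lift_eq (M := q.primeCompl) (g := f₀) _ a).symm.trans (congrArg (Subtype.val : B → L) h))))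
  -- the largest prime not containing `g a`
  obtain ⟨P, hPprime, hPa, hPmax⟩ : ∃ P : Ideal B, P.IsPrime ∧ g a ∉ P ∧
      ∀ Q : Ideal B, Q.IsPrime → g a ∉ Q → Q ≤ P := by
    let S : Set (Ideal B) := {Q | Q.IsPrime ∧ g a ∉ Q}
    have hchain : ∀ x ∈ S, ∀ y ∈ S, x ≤ y ∨ y ≤ x := fun x _ y _ => (ValuationRing.le_total_ideal (A := B)).total x y
    refine ⟨sSup S, ?_, ?_, fun Q h1 h2 => le_sSup (show Q ∈ S from ⟨h1, h2⟩)⟩
    · refine ⟨?_, fun {x y} hxy => ?_⟩
      · intro htop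
        have hne : S.Nonempty := ⟨⊥, Ideal.isPrime_bot, fun h => hg0 (Ideal.mem_bot.1 h)⟩
        have : g a ∈ sSup S := htop ▸ trivial
        rw [Submodule.mem_sSup_of_directed hne (fun x hx y hy => (hchain x hx y hy).elim
          (fun h => ⟨y, hy, h, le_rfl⟩) fun h => ⟨x, hx, le_rfl, h⟩)] at this
        obtain ⟨Q, hQ, hQa⟩ := this
        exact hQ.2 hQa
      · have hne : S.Nonempty := ⟨⊥, Ideal.isPrime_bot, fun h => hg0 (Ideal.mem_bot.1 h)⟩
        have hdir : DirectedOn (· ≤ ·) S := fun x hx y hy => (hchain x hx y hy).elim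
          (fun h => ⟨y, hy, h, le_rfl⟩) fun h => ⟨x, hx, le_rfl, h⟩
        rw [Submodule.mem_sSup_of_directed hne hdir] at hxy
        obtain ⟨Q, hQ, hQxy⟩ := hxy
        exact (hQ.1.mem_or_mem hQxy).imp (fun h => le_sSup hQ h) fun h => le_sSup hQ h
    · intro h
      have hne : S.Nonempty := ⟨⊥, Ideal.isPrime_bot, fun h => hg0 (Ideal.mem_bot.1 h)⟩
      have hdir : DirectedOn (· ≤ ·) S := fun x hx y hy => (hchain x hx y hy).elim
        (fun h => ⟨y, hy, h, le_rfl⟩) fun h => ⟨x, hx, le_rfl, h⟩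
      rw [Submodule.mem_sSup_of_directed hne hdir] at h
      obtain ⟨Q, hQ, hQa⟩ := h
      exact hQ.2 hQa
  haveI := hPprime
  haveI : ValuationRing (B ⧸ P) := Function.Surjective.valuationRing (Ideal.Quotient.mk P) Ideal.Quotient.mk_surjective
  let π := Ideal.Quotient.mk P
  refine ⟨B ⧸ P, inferInstance, inferInstance, inferInstance, π.comp g,
    fun h => hPa (Ideal.Quotient.eq_zero_iff_mem.1 h), fun s hs => ?_, fun b hb hu => ?_, fun Q hQ => ⟨fun h => ?_, ?_⟩⟩
  · exact ((IsLocalization.map_units (M := q.primeCompl) (Localization.AtPrime q) ⟨s, hs⟩).map (f₁.codRestrict B.toSubring hB)).map π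
  · have h1 : algebraMap A (Localization.AtPrime q) b ∈ IsLocalRing.maximalIdeal _ :=
      (IsLocalization.AtPrime.to_map_mem_maximal_iff _ q b).2 hb
    have h2 : ¬ IsUnit (g b) := fun h => h1 (hloc.map_nonunit _ h)
    obtain ⟨c, hc⟩ := isUnit_iff_exists_inv.1 hu
    obtain ⟨c, rfl⟩ := Ideal.Quotient.mk_surjective c
    have h3 : g b * c - 1 ∈ P := by
      rw [← Ideal.Quotient.eq_zero_iff_mem, map_sub, map_mul, map_one]
      exact sub_eq_zero.2 hc
    have h4 : g b * c ∈ IsLocalRing.maximalIdeal B := Ideal.mul_mem_right _ _ h2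
    have h5 := Ideal.sub_mem _ h4 (IsLocalRing.le_maximalIdeal hPprime.ne_top h3)
    rw [sub_sub_cancel] at h5
    exact (IsLocalRing.maximalIdeal.isMaximal B).ne_top ((Ideal.eq_top_iff_one _).2 h5)
  · refine eq_bot_iff.2 fun x hx => ?_
    obtain ⟨x, rfl⟩ := Ideal.Quotient.mk_surjective x
    exact Ideal.mem_bot.2 (Ideal.Quotient.eq_zero_iff_mem.2 (hPmax (Q.comap π) inferInstance h hx))
  · rintro rfl h
    exact hPa (Ideal.Quotient.eq_zero_iff_mem.1 (Ideal.mem_bot.1 h))

variable {X : Scheme.{u}}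

theorem exists_point (I : X.IdealSheafData) {U : X.affineOpens} {a : Γ(X, U.1)}
    (ha : a ∈ nonZeroDivisors Γ(X, U.1)) (he : I.ideal U = Ideal.span {a}) (q : Ideal Γ(X, U.1)) [q.IsPrime] :
    ∃ (R : Type u) (_ : CommRing R) (_ : IsDomain R) (_ : ValuationRing R)
      (p : Spec (CommRingCat.of R) ⟶ X) (ψ : Γ(X, U.1) →+* R),
      (∀ b ∈ q, ¬ IsUnit (ψ b)) ∧ (∀ s ∉ q, IsUnit (ψ s)) ∧ ψ a ≠ 0 ∧
      BlowUp.IsEffCartierIdeal (I.comap p) ∧
      (∀ x : Spec (CommRingCat.of R), x ∈ (ModPair.interior (I.comap p) : Set _) ↔ x.asIdeal = ⊥) ∧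
      ∀ J : X.IdealSheafData, (J.comap p).ideal ⟨⊤, isAffineOpen_top _⟩ =
        ((J.ideal U).map ψ).map (Scheme.ΓSpecIso (CommRingCat.of R)).inv.hom := by
  obtain ⟨R, _, _, _, ψ, h0, hu, hnu, hint⟩ := exists_valuation ha q
  let p : Spec (CommRingCat.of R) ⟶ X := Spec.map (CommRingCat.ofHom ψ) ≫ U.2.fromSpec
  have key : ∀ J : X.IdealSheafData, (J.comap p).ideal ⟨⊤, isAffineOpen_top _⟩ =
        ((J.ideal U).map ψ).map (Scheme.ΓSpecIso (CommRingCat.of R)).inv.hom := fun J => by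
    rw [Scheme.IdealSheafData.comap_comp, FpqcDescent.ideal_comap_of_isAffine,
      BlowUpExist.ideal_comap_fromSpec, Ideal.map_map, Ideal.map_map]
    congr 1
    exact congrArg CommRingCat.Hom.hom (Scheme.ΓSpecIso_inv_naturality (CommRingCat.ofHom ψ)).symm
  let e := (Scheme.ΓSpecIso (CommRingCat.of R)).symm.commRingCatIsoToRingEquiv
  have hgen : (I.comap p).ideal ⟨⊤, isAffineOpen_top _⟩ = Ideal.span {e (ψ a)} := by
    rw [key, he, Ideal.map_span, Set.image_singleton, Ideal.map_span, Set.image_singleton]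
    rfl
  refine ⟨R, _, ‹_›, ‹_›, p, ψ, hnu, hu, h0, fun x => ⟨⟨⊤, isAffineOpen_top _⟩, trivial, _, ?_, hgen⟩, fun x => ?_, key⟩
  · suffices h' : ∀ z, z * e (ψ a) = 0 → z = 0 from ⟨fun z hz => h' z ((mul_comm z _).trans hz), h'⟩
    intro z hz
    obtain ⟨z, rfl⟩ := e.surjective z
    rw [← map_mul, map_eq_zero_iff _ e.injective] at hz
    rw [(mul_eq_zero.1 hz).resolve_right h0, map_zero]
  · have h1 : x ∉ (I.comap p).support ↔ x ∈ (Spec (CommRingCat.of R)).basicOpen (e (ψ a)) :=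
      mem_basicOpen_of_notMem_support (U := ⟨⊤, isAffineOpen_top _⟩) hgen trivial
    refine (show x ∈ (ModPair.interior (I.comap p) : Set _) ↔ x ∉ (I.comap p).support from Iff.rfl).trans (h1.trans ?_)
    rw [show (e (ψ a)) = (Scheme.ΓSpecIso (CommRingCat.of R)).inv (ψ a) from rfl, basicOpen_eq_of_affine]
    exact hint x.asIdeal x.isPrime

theorem eq_of_valuationRings (I J : X.IdealSheafData) (hI : BlowUp.IsEffCartierIdeal I)
    (hJ : BlowUp.IsEffCartierIdeal J) (hJI : J ≤ I)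
    (h : ∀ (R : Type u) [CommRing R] [IsDomain R] [ValuationRing R] (p : Spec (CommRingCat.of R) ⟶ X),
      BlowUp.IsEffCartierIdeal (I.comap p) →
      (∀ x : Spec (CommRingCat.of R), x ∈ (ModPair.interior (I.comap p) : Set _) ↔ x.asIdeal = ⊥) →
      I.comap p = J.comap p) : I = J := by
  have key : ∀ x : X, ∃ V : X.affineOpens, x ∈ V.1 ∧ I.ideal V ≤ J.ideal V := by
    intro x
    obtain ⟨U, hxU, a, ha, he⟩ := hI x
    obtain ⟨V, hxV, hVU, c, -, he'⟩ := exists_small_generator hJ hxU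
    obtain ⟨a', ha', he''⟩ := exists_generator_of_le I (show V ≤ U from hVU) ha he
    refine ⟨V, hxV, ?_⟩
    obtain ⟨b, hb⟩ := Ideal.mem_span_singleton'.1
      (he'' ▸ hJI V (he' ▸ Ideal.mem_span_singleton_self c) : c ∈ Ideal.span {a'})
    by_contra hne
    have hbu : ¬ IsUnit b := fun hu => hne (by
      rw [he'', he', ← hb, Ideal.span_singleton_mul_left_unit hu])
    obtain ⟨q, hq, hbq⟩ := exists_max_ideal_of_mem_nonunits hbu
    haveI := hq.isPrime
    obtain ⟨R, _, _, _, p, ψ, hnu, -, h0, hc, hint, hkey⟩ := exists_point I ha' he'' q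
    have heq := congrArg (fun K : (Spec (CommRingCat.of R)).IdealSheafData => K.ideal ⟨⊤, isAffineOpen_top _⟩) (h R p hc hint)
    simp only [hkey, he'', he', Ideal.map_span, Set.image_singleton] at heq
    have heq' := FpqcDescent.map_injective_of_bijective
      (φ := (Scheme.ΓSpecIso (CommRingCat.of R)).inv.hom)
      (Scheme.ΓSpecIso (CommRingCat.of R)).symm.commRingCatIsoToRingEquiv.bijective
      (I := Ideal.span {ψ a'}) (J := Ideal.span {ψ c})
      (by simp only [Ideal.map_span, Set.image_singleton]; exact heq)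
    obtain ⟨r, hr⟩ := Ideal.mem_span_singleton'.1 (heq' ▸ Ideal.mem_span_singleton_self (ψ a'))
    rw [← hb, map_mul, ← mul_assoc] at hr
    exact hnu b hbq (IsUnit.of_mul_eq_one r (by
      rw [mul_comm]; exact mul_right_cancel₀ h0 (hr.trans (one_mul _).symm)))
  choose V hxV hle using key
  exact le_antisymm (Scheme.IdealSheafData.le_of_iSup_eq_top V
    (top_le_iff.1 fun x _ => Opens.mem_iSup.2 ⟨x, hxV x⟩) hle) hJI

theorem eq_top_of_valuationRings (I : X.IdealSheafData) (hI : BlowUp.IsEffCartierIdeal I)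
    (h : ∀ (R : Type u) [CommRing R] [IsDomain R] [ValuationRing R] (p : Spec (CommRingCat.of R) ⟶ X),
      BlowUp.IsEffCartierIdeal (I.comap p) → I.comap p = ⊤) : I = ⊤ := by
  rw [← Scheme.IdealSheafData.support_eq_bot_iff]
  refine Closeds.ext (Set.eq_empty_of_forall_notMem fun x hx => ?_)
  obtain ⟨U, hxU, a, ha, he⟩ := hI x
  have hx' : x ∉ X.basicOpen a := fun hb => ((mem_basicOpen_of_notMem_support he hxU).2 hb) hx
  let P := U.2.primeIdealOf ⟨x, hxU⟩
  have haP : a ∈ P.asIdeal := by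
    by_contra hc
    refine hx' ?_
    have h1 : U.2.fromSpec.base P ∈ X.basicOpen a := by
      show P ∈ U.2.fromSpec ⁻¹ᵁ X.basicOpen a
      rw [U.2.fromSpec_preimage_basicOpen]; exact hc
    rwa [IsAffineOpen.fromSpec_primeIdealOf] at h1
  obtain ⟨R, _, _, _, p, ψ, hnu, -, h0, hc, -, hkey⟩ := exists_point I ha he P.asIdeal
  have heq := congrArg (fun K : (Spec (CommRingCat.of R)).IdealSheafData => K.ideal ⟨⊤, isAffineOpen_top _⟩) (h R p hc)
  simp only [hkey, he, Ideal.map_span, Set.image_singleton] at heq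
  have : (Ideal.span {(Scheme.ΓSpecIso (CommRingCat.of R)).inv.hom (ψ a)} : Ideal _) = ⊤ := by
    rw [heq]; simp
  rw [Ideal.span_singleton_eq_top] at this
  exact hnu a haP ((isUnit_map_iff (Scheme.ΓSpecIso (CommRingCat.of R)).symm.commRingCatIsoToRingEquiv (ψ a)).1 this)

theorem minimal_locus {Y Z : Scheme.{u}} (I : X.IdealSheafData) (J : Y.IdealSheafData) (K : Z.IdealSheafData)
    (hI : BlowUp.IsEffCartierIdeal I) (hJ : BlowUp.IsEffCartierIdeal J) (hK : BlowUp.IsEffCartierIdeal K)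
    (f : X ⟶ Y) (g : Y ⟶ Z) (hf : IsAmbient I J f) (hg : IsAmbient J K g) (hfg : IsMinimal I K (f ≫ g)) :
    IsMinimal I J f ∧ ∃ U : Y.Opens, QuasiCompact U.ι ∧ Set.range f.base ⊆ (U : Set Y) ∧
      IsMinimal (J.comap U.ι) K (U.ι ≫ g) := by
  have hfg' : I = (K.comap g).comap f := hfg.trans (Scheme.IdealSheafData.comap_comp _ _ _)
  have hmin : I = J.comap f := le_antisymm hf ((Scheme.IdealSheafData.comap_mono f hg).trans_eq hfg'.symm)
  refine ⟨hmin, ?_⟩
  obtain ⟨L, hL⟩ := ModPairProd.exists_div (cartier_comap_of_ambient hJ hK hg) hg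
  have hLc : BlowUp.IsEffCartierIdeal L := cartier_of_mul_left (hL.symm ▸ hJ)
  have hLf : L.comap f = ⊤ := ModPairProd.mul_cancel hI (by
    refine Eq.trans ?_ (show I = ⊤ * I from Scheme.IdealSheafData.ext (by
      funext U; simp [Scheme.IdealSheafData.ideal_mul, Scheme.IdealSheafData.ideal_top]))
    calc L.comap f * I = L.comap f * (K.comap g).comap f := by rw [← hfg']
      _ = (L * K.comap g).comap f := (comap_mul _ _ _).symm
      _ = I := by rw [hL, hmin])
  refine ⟨HTop.awayFrom L, AlmostBlow.quasiCompact_awayFrom_ι (isLocPrincipal_of_cartier hLc), ?_, ?_⟩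
  · rintro _ ⟨x, rfl⟩
    have : x ∉ (L.comap f).support := by rw [hLf, Scheme.IdealSheafData.support_top]; exact id
    rw [Scheme.IdealSheafData.support_comap] at this
    exact this
  · show _ = _
    rw [Scheme.IdealSheafData.comap_comp, ← hL, comap_mul,
      comap_eq_top L (HTop.awayFrom L).ι fun x => x.2]
    exact Scheme.IdealSheafData.ext (by
      funext U; simp [Scheme.IdealSheafData.ideal_mul, Scheme.IdealSheafData.ideal_top])

theorem isAlgClosed_residueField (A : Type u) [CommRing A]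
    (hloc : ∀ (X : Scheme.{u}) (R : Presieve X),
      R ∈ Scheme.precoverage (@Flat ⊓ @LocallyOfFinitePresentation ⊓ @QuasiCompact ⊓ @QuasiSeparated) X →
      ∀ g : Spec (CommRingCat.of A) ⟶ X, ∃ (Y : Scheme.{u}) (v : Y ⟶ X) (h : Spec (CommRingCat.of A) ⟶ Y),
        R v ∧ h ≫ v = g) (p : Ideal A) [p.IsPrime] : IsAlgClosed p.ResidueField := by
  refine IsAlgClosed.of_exists_root _ fun f hf hirr => ?_
  have hne : f.natDegree ≠ 0 := fun h => hirr.not_isUnit (by
    rw [hf.natDegree_eq_zero.1 h]; exact isUnit_one)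
  haveI : Nontrivial A := ⟨⟨0, 1, fun h => (inferInstance : p.IsPrime).ne_top
    ((Ideal.eq_top_iff_one p).2 (h ▸ p.zero_mem))⟩⟩
  let φ₀ := algebraMap (A ⧸ p) p.ResidueField
  let c := φ₀ (IsLocalization.commonDenom (nonZeroDivisors (A ⧸ p)) f.support f.coeff)
  have hc : c ≠ 0 := IsFractionRing.to_map_ne_zero_of_mem_nonZeroDivisors (SetLike.coe_mem _)
  have hlift : f.scaleRoots c ∈ Polynomial.lifts φ₀ :=
    IsLocalization.scaleRoots_commonDenom_mem_lifts (nonZeroDivisors (A ⧸ p)) f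
      (by rw [hf.leadingCoeff]; exact one_mem _)
  obtain ⟨h₁, e1, d1, m1⟩ := Polynomial.lifts_and_natDegree_eq_and_monic hlift
    (Polynomial.monic_scaleRoots_iff c |>.2 hf)
  obtain ⟨h, e2, d2, m2⟩ := Polynomial.lifts_and_natDegree_eq_and_monic (f := Ideal.Quotient.mk p) (p := h₁)
    ((Polynomial.lifts_iff_coeff_lifts _).2 fun n => Ideal.Quotient.mk_surjective _) m1
  have hdeg : h.natDegree = f.natDegree := by rw [d2, d1, Polynomial.natDegree_scaleRoots]
  haveI : Module.Finite A (AdjoinRoot h) := (AdjoinRoot.powerBasis' m2).finite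
  haveI : Module.Free A (AdjoinRoot h) := Module.Free.of_basis (AdjoinRoot.powerBasis' m2).basis
  haveI : Nontrivial (AdjoinRoot h) := by
    haveI : Nonempty (Fin (AdjoinRoot.powerBasis' m2).dim) := ⟨⟨0, by
      rw [AdjoinRoot.powerBasis'_dim, hdeg]; exact Nat.pos_of_ne_zero hne⟩⟩
    exact (AdjoinRoot.powerBasis' m2).basis.repr.toEquiv.nontrivial
  haveI : Module.FaithfullyFlat A (AdjoinRoot h) := inferInstance
  haveI : Algebra.FinitePresentation A (AdjoinRoot h) :=
    Algebra.FinitePresentation.quotient ⟨{h}, by simp⟩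
  let v : Spec (CommRingCat.of (AdjoinRoot h)) ⟶ Spec (CommRingCat.of A) :=
    Spec.map (CommRingCat.ofHom (algebraMap A (AdjoinRoot h)))
  haveI : Flat v := by
    rw [HasRingHomProperty.Spec_iff (P := @Flat)]
    exact RingHom.flat_algebraMap_iff.2 inferInstance
  haveI : LocallyOfFinitePresentation v := by
    rw [HasRingHomProperty.Spec_iff (P := @LocallyOfFinitePresentation)]
    exact RingHom.finitePresentation_algebraMap.2 inferInstance
  obtain ⟨Y, w, k, hw, hk⟩ := hloc _ (Presieve.ofArrows (fun _ : PUnit.{u + 1} => Spec (CommRingCat.of (AdjoinRoot h))) fun _ => v) (by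
    rw [Scheme.ofArrows_mem_precoverage_iff]
    refine ⟨fun x => ⟨⟨⟩, ?_⟩, fun _ => ⟨⟨⟨inferInstance, inferInstance⟩, inferInstance⟩, inferInstance⟩⟩
    exact PrimeSpectrum.comap_surjective_of_faithfullyFlat (A := A) (B := AdjoinRoot h) x) (𝟙 _)
  cases hw
  obtain ⟨κ, rfl⟩ := Spec.map_surjective k
  rw [← Spec.map_comp, ← Spec.map_id, Spec.map_inj] at hk
  have hκ : κ.hom.comp (algebraMap A (AdjoinRoot h)) = RingHom.id A := congrArg CommRingCat.Hom.hom hk
  let r : A := κ.hom (AdjoinRoot.root h)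
  have hr : h.eval r = 0 := by
    have h1 := congrArg κ.hom (AdjoinRoot.eval₂_root h)
    rw [Polynomial.hom_eval₂, map_zero, show AdjoinRoot.of h = algebraMap A (AdjoinRoot h) from rfl, hκ] at h1
    exact h1
  refine ⟨φ₀ (Ideal.Quotient.mk p r) / c, ?_⟩
  have h2 : (f.scaleRoots c).eval (φ₀ (Ideal.Quotient.mk p r)) = 0 := by
    rw [← e1, ← e2, Polynomial.eval_map, Polynomial.eval₂_map, ← Polynomial.hom_eval₂, Polynomial.eval₂_at_apply,
      hr, map_zero, map_zero]
  have h3 := Polynomial.scaleRoots_eval_mul f (φ₀ (Ideal.Quotient.mk p r) / c) c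
  rw [mul_div_cancel₀ _ hc, h2] at h3
  exact (mul_eq_zero.1 h3.symm).resolve_left (pow_ne_zero _ hc)

end Groth.Agent.ModPairVal
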