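import Groth.Agent.ModPairVal.Basic
import Groth.Agent.ValFib.Basic
import Groth.Agent.Weighting.Geom
import Mathlib

/-!
# Proper morphisms to spectra of semi-valuation rings, finite over the interior, are finite
-/

set_option autoImplicit false
set_option backward.isDefEq.respectTransparency false
set_option backward.isDefEq.respectTransparency.types false
set_option linter.style.haveILetI false

universe u

open CategoryTheory AlgebraicGeometry Limits TopologicalSpace

namespace Groth.Agent.ModPairVal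

/-- Specialisations `y` of a point `z` with finite residue extension lying over a point whose local ring has a valuation
ring as image in the residue field below `z` form a finite set. -/
theorem finite_specializations {Q P : Scheme.{u}} [Q.IsSeparated] (q : Q ⟶ P) (z : Q)
    (hfin : (q.residueFieldMap z).hom.Finite) (x : P) (h : q z ⤳ x)
    (hB : ∀ k : P.residueField (q z),
      k ∈ (P.presheaf.stalkSpecializes h ≫ P.residue (q z)).hom.range ∨
      k⁻¹ ∈ (P.presheaf.stalkSpecializes h ≫ P.residue (q z)).hom.range) :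
    {y : Q | z ⤳ y ∧ q y = x}.Finite := by
  classical
  let K := P.residueField (q z)
  let F := Q.residueField z
  letI : Algebra K F := (q.residueFieldMap z).hom.toAlgebra
  haveI : Module.Finite K F := hfin
  let W : ValuationSubring K :=
    { (P.presheaf.stalkSpecializes h ≫ P.residue (q z)).hom.range with mem_or_inv_mem' := hB }
  let φ : ∀ y, z ⤳ y → (Q.presheaf.stalk y ⟶ F) := fun y hy => Q.presheaf.stalkSpecializes hy ≫ Q.residue z
  have hex : ∀ y, ∀ hy : z ⤳ y, ∃ (V : ValuationSubring F) (hV : ∀ a, (φ y hy).hom a ∈ V.toSubring),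
      IsLocalHom ((φ y hy).hom.codRestrict _ hV) := fun y hy => IsLocalRing.exists_factor_valuationRing _
  choose V hV hloc using hex
  have htrace : ∀ y (hy : z ⤳ y), q y = x → (V y hy).comap (algebraMap K F) = W := by
    rintro y hy rfl
    have hcomp : ∀ b, algebraMap K F ((P.presheaf.stalkSpecializes h ≫ P.residue (q z)) b) =
        φ y hy (q.stalkMap y b) := fun b => by
      show ((P.presheaf.stalkSpecializes h ≫ P.residue (q z)) ≫ q.residueFieldMap z) b = (q.stalkMap y ≫ φ y hy) b
      rw [Category.assoc, Scheme.residue_residueFieldMap, ← Category.assoc, ← Category.assoc,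
        ← Scheme.Hom.stalkSpecializes_stalkMap]
    ext k
    refine ⟨fun hk => ?_, ?_⟩
    · by_contra hkW
      obtain ⟨a, ha⟩ := (hB k).resolve_left hkW
      have hnu : ¬ IsUnit a := fun hu => hkW ⟨((hu.unit⁻¹ : (P.presheaf.stalk (q y))ˣ) : P.presheaf.stalk (q y)), by
        rw [map_units_inv, show ((P.presheaf.stalkSpecializes h ≫ P.residue (q z)).hom (hu.unit : _)) = k⁻¹ from ha]
        exact inv_inv k⟩
      have hnu' : ¬ IsUnit (q.stalkMap y a) := fun hu => hnu (isUnit_of_map_unit (q.stalkMap y).hom a hu)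
      have hnu'' : ¬ IsUnit ((φ y hy).hom.codRestrict _ (hV y hy) (q.stalkMap y a)) := fun hu =>
        hnu' ((hloc y hy).map_nonunit _ hu)
      have hk0 : k ≠ 0 := fun h0 => hkW (h0 ▸ zero_mem W.toSubring)
      refine hnu'' (IsUnit.of_mul_eq_one (⟨algebraMap K F k, hk⟩ : (V y hy).toSubring) (Subtype.ext ?_))
      show φ y hy (q.stalkMap y a) * algebraMap K F k = 1
      rw [← hcomp, show ((P.presheaf.stalkSpecializes h ≫ P.residue (q z)) a) = k⁻¹ from ha, ← map_mul,
        inv_mul_cancel₀ hk0, map_one]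
    · rintro ⟨b, rfl⟩
      show algebraMap K F _ ∈ V y hy
      rw [show ((P.presheaf.stalkSpecializes h ≫ P.residue (q z)).hom b) =
        (P.presheaf.stalkSpecializes h ≫ P.residue (q z)) b from rfl, hcomp]
      exact hV y hy _
  have hinj : ∀ y y' (hy : z ⤳ y) (hy' : z ⤳ y'), V y hy = V y' hy' → y = y' := by
    intro y y' hy hy' he
    let l : ∀ (w : Q) (hw : z ⤳ w) (A : ValuationSubring F) (hA : ∀ a, (φ w hw).hom a ∈ A.toSubring),
        Spec (CommRingCat.of A) ⟶ Q := fun w hw A hA =>
      Spec.map (CommRingCat.ofHom ((φ w hw).hom.codRestrict A.toSubring hA)) ≫ Q.fromSpecStalk w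
    have hA' : ∀ a, (φ y' hy').hom a ∈ (V y hy).toSubring := he ▸ hV y' hy'
    have hloc' : IsLocalHom ((φ y' hy').hom.codRestrict (V y hy).toSubring hA') := by
      have key : ∀ (A : ValuationSubring F) (hA : ∀ a, (φ y' hy').hom a ∈ A.toSubring), V y' hy' = A →
          IsLocalHom ((φ y' hy').hom.codRestrict A.toSubring hA) := by
        rintro A hA rfl
        exact hloc y' hy'
      exact key _ hA' he.symm
    let ι : Spec F ⟶ Spec (CommRingCat.of (V y hy)) := Spec.map (CommRingCat.ofHom (V y hy).subtype)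
    haveI : IsDominant ι := by
      refine ⟨?_⟩
      show DenseRange (PrimeSpectrum.comap (V y hy).subtype)
      rw [PrimeSpectrum.denseRange_comap_iff_ker_le_nilRadical,
        (RingHom.injective_iff_ker_eq_bot _).1 Subtype.val_injective]
      exact bot_le
    have hgen : ∀ (w : Q) (hw : z ⤳ w) (hA : ∀ a, (φ w hw).hom a ∈ (V y hy).toSubring),
        ι ≫ l w hw (V y hy) hA = Q.fromSpecResidueField z := by
      intro w hw hA
      rw [Scheme.fromSpecResidueField, ← Scheme.SpecMap_stalkSpecializes_fromSpecStalk hw]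
      simp only [l, ι, ← Spec.map_comp_assoc]
      rfl
    have heq : l y hy (V y hy) (hV y hy) = l y' hy' (V y hy) hA' :=
      ext_of_isDominant ι (by rw [hgen, hgen])
    have hc : ∀ (w : Q) (hw : z ⤳ w) (hA : ∀ a, (φ w hw).hom a ∈ (V y hy).toSubring),
        IsLocalHom ((φ w hw).hom.codRestrict (V y hy).toSubring hA) →
        l w hw (V y hy) hA (IsLocalRing.closedPoint (V y hy)) = w := by
      intro w hw hA hl
      haveI := hl
      have : Spec.map (CommRingCat.ofHom ((φ w hw).hom.codRestrict (V y hy).toSubring hA))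
          (IsLocalRing.closedPoint (V y hy)) = IsLocalRing.closedPoint (Q.presheaf.stalk w) :=
        IsLocalRing.comap_closedPoint (S := V y hy) ((φ w hw).hom.codRestrict (V y hy).toSubring hA)
      exact (congrArg (fun t => Q.fromSpecStalk w t) this).trans Q.fromSpecStalk_closedPoint
    rw [← hc y hy (hV y hy) (hloc y hy), ← hc y' hy' hA' hloc', heq]
  have hfinV : {O : ValuationSubring F | O.comap (algebraMap K F) = W}.Finite := by
    by_contra hinf
    obtain ⟨s, hs, hcard⟩ := Set.Infinite.exists_subset_card_eq hinf (Module.finrank K F + 1)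
    have := ValFib.card_le W s fun O hO => hs hO
    omega
  refine Set.Finite.of_finite_image (f := fun y => if hy : z ⤳ y then V y hy else ⊤)
    (hfinV.subset ?_) ?_
  · rintro _ ⟨y, ⟨hy, hyx⟩, rfl⟩
    simp only [dif_pos hy]
    exact htrace y hy hyx
  · rintro y ⟨hy, -⟩ y' ⟨hy', -⟩ he
    simp only [dif_pos hy, dif_pos hy'] at he
    exact hinj y y' hy hy' he

/-- The semi-valuation ring case. -/
theorem isFinite_semiVal {O : Type u} [CommRing O] [IsLocalRing O]
    (R : ValuationSubring (IsLocalRing.ResidueField O))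
    (f : ↥((R.toSubring).comap (IsLocalRing.residue O))) [IsLocalization.Away f O] {Q : Scheme.{u}}
    (IQ : Q.IdealSheafData) (hQ : BlowUp.IsEffCartierIdeal IQ)
    (q : Q ⟶ Spec (CommRingCat.of ↥((R.toSubring).comap (IsLocalRing.residue O))))
    (hq : ModPair.IsMinimal IQ (Spec.map (CommRingCat.ofHom (Ideal.Quotient.mk (Ideal.span {f})))).ker q)
    [IsProper q]
    (hfin : IsFinite (q ∣_ ModPair.interior (Spec.map (CommRingCat.ofHom (Ideal.Quotient.mk (Ideal.span {f})))).ker)) :
    IsFinite q := by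
  classical
  let A : CommRingCat.{u} := CommRingCat.of ↥((R.toSubring).comap (IsLocalRing.residue O))
  let IP := (Spec.map (CommRingCat.ofHom (Ideal.Quotient.mk (Ideal.span {f})))).ker
  let D := ModPair.interior IP
  have hD : ∀ x : Spec A, x ∈ D ↔ f ∉ x.asIdeal := by
    intro x
    have hr : Set.range (Spec.map (CommRingCat.ofHom (Ideal.Quotient.mk (Ideal.span {f})))) =
        PrimeSpectrum.zeroLocus (Ideal.span {f} : Set A) := by
      rw [show (Set.range (Spec.map (CommRingCat.ofHom (Ideal.Quotient.mk (Ideal.span {f}))))) =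
        Set.range (PrimeSpectrum.comap (Ideal.Quotient.mk (Ideal.span {f}))) from rfl,
        range_comap_of_surjective _ _ Ideal.Quotient.mk_surjective, Ideal.mk_ker]
    show x ∉ IP.support ↔ _
    rw [← SetLike.mem_coe, Scheme.Hom.support_ker, hr, (PrimeSpectrum.isClosed_zeroLocus _).closure_eq,
      PrimeSpectrum.mem_zeroLocus, SetLike.coe_subset_coe, Ideal.span_le, Set.singleton_subset_iff, SetLike.mem_coe]
  -- the closed point of the interior
  have hfu : IsUnit (algebraMap A O f) := IsLocalization.Away.algebraMap_isUnit f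
  let m : Ideal A := (IsLocalRing.maximalIdeal O).comap (algebraMap A O)
  haveI : m.IsPrime := Ideal.IsPrime.comap _
  have hfm : f ∉ m := fun h => (IsLocalRing.mem_maximalIdeal _).1 h hfu
  let mP : Spec A := ⟨m, inferInstance⟩
  have hmax : ∀ p : Spec A, f ∉ p.asIdeal → p.asIdeal ≤ m := by
    intro p hp
    have hdisj : Disjoint (Submonoid.powers f : Set A) p.asIdeal := by
      rw [Set.disjoint_left]
      rintro _ ⟨n, rfl⟩ hn
      exact hp (p.2.mem_of_pow_mem n hn)
    rw [← IsLocalization.comap_map_of_isPrime_disjoint (Submonoid.powers f) O p.2 hdisj]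
    refine Ideal.comap_mono (IsLocalRing.le_maximalIdeal ?_)
    exact (IsLocalization.isPrime_of_isPrime_disjoint (Submonoid.powers f) O _ p.2 hdisj).ne_top
  have hdiv : ∀ a ∈ m, ∀ n : ℕ, ∃ c ∈ m, a = f ^ n * c := by
    intro a ha n
    have hc0 : ((hfu.pow n).unit⁻¹ : Oˣ) * algebraMap A O a ∈ IsLocalRing.maximalIdeal O :=
      Ideal.mul_mem_left _ _ ha
    refine ⟨⟨((hfu.pow n).unit⁻¹ : Oˣ) * algebraMap A O a, ?_⟩, hc0, ?_⟩
    · show IsLocalRing.residue O _ ∈ R.toSubring
      rw [(IsLocalRing.residue_eq_zero_iff _).2 hc0]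
      exact zero_mem _
    · refine Subtype.ext ?_
      show (a : O) = (f : O) ^ n * (((hfu.pow n).unit⁻¹ : Oˣ) * algebraMap A O a)
      rw [← mul_assoc, IsUnit.mul_val_inv, one_mul]
      rfl
  have hratio : ∀ a s : A, (∃ c, a - c * s ∈ m) ∨ (∃ c, s - c * a ∈ m) := by
    intro a s
    let res := IsLocalRing.residue O
    by_cases hs : s ∈ m
    · exact .inr ⟨0, by rw [zero_mul, sub_zero]; exact hs⟩
    by_cases ha : a ∈ m
    · exact .inl ⟨0, by rw [zero_mul, sub_zero]; exact ha⟩
    have hs0 : res s ≠ 0 := fun h => hs ((IsLocalRing.residue_eq_zero_iff _).1 h)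
    have ha0 : res a ≠ 0 := fun h => ha ((IsLocalRing.residue_eq_zero_iff _).1 h)
    rcases R.mem_or_inv_mem (res a / res s) with h | h
    · obtain ⟨c, hc⟩ := IsLocalRing.residue_surjective (res a / res s)
      refine .inl ⟨⟨c, by show res c ∈ R.toSubring; rw [hc]; exact h⟩, ?_⟩
      show (a : O) - c * (s : O) ∈ IsLocalRing.maximalIdeal O
      rw [← IsLocalRing.residue_eq_zero_iff, map_sub, map_mul, hc, div_mul_cancel₀ _ hs0, sub_self]
    · rw [inv_div] at h
      obtain ⟨c, hc⟩ := IsLocalRing.residue_surjective (res s / res a)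
      refine .inr ⟨⟨c, by show res c ∈ R.toSubring; rw [hc]; exact h⟩, ?_⟩
      show (s : O) - c * (a : O) ∈ IsLocalRing.maximalIdeal O
      rw [← IsLocalRing.residue_eq_zero_iff, map_sub, map_mul, hc, div_mul_cancel₀ _ ha0, sub_self]
  haveI : IsFinite (q ∣_ D) := hfin
  haveI : Q.IsSeparated := Scheme.IsSeparated.mk (by
    rw [show terminal.from Q = q ≫ terminal.from _ from (terminal.hom_ext _ _)]
    infer_instance)
  have hfibD : ∀ x : Spec A, x ∈ D → (q ⁻¹' {x}).Finite := by
    intro x hx
    refine (((q ∣_ D).finite_preimage_singleton ⟨x, hx⟩).image (q ⁻¹ᵁ D).ι).subset ?_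
    intro y hy
    have hy' : y ∈ q ⁻¹ᵁ D := by show q y ∈ D; rw [show q y = x from hy]; exact hx
    refine ⟨⟨y, hy'⟩, Subtype.ext ?_, rfl⟩
    exact (morphismRestrict_base_coe q D _).trans hy
  have hcover : ∀ y : Q, q y ∉ D → ∃ z, q z = mP ∧ z ⤳ y := by
    intro y hy
    obtain ⟨U, hyU, a, ha, he⟩ := hQ y
    let P0 := U.2.primeIdealOf ⟨y, hyU⟩
    obtain ⟨V, _, _, _, ψ, hψ0, hu, hnu, hint⟩ := exists_valuation ha P0.asIdeal
    let p : Spec (CommRingCat.of V) ⟶ Q := Spec.map (CommRingCat.ofHom ψ) ≫ U.2.fromSpec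
    have hclosed : p (IsLocalRing.closedPoint V) = y := by
      have h : Spec.map (CommRingCat.ofHom ψ) (IsLocalRing.closedPoint V) = P0 := by
        refine PrimeSpectrum.ext (Ideal.ext fun b => ⟨fun hb => ?_, fun hb => ?_⟩)
        · by_contra hb'
          exact (IsLocalRing.mem_maximalIdeal _).1 hb (hu b hb')
        · exact (IsLocalRing.mem_maximalIdeal _).2 (hnu b hb)
      rw [Scheme.Hom.comp_apply, h]
      exact U.2.fromSpec_primeIdealOf ⟨y, hyU⟩
    have hpD : ∀ Q' : Spec (CommRingCat.of V), q (p Q') ∈ D ↔ Q'.asIdeal = ⊥ := by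
      intro Q'
      have e : q ⁻¹ᵁ D = HTop.awayFrom IQ := by
        have := ModPairFrac.preimage_interior hq
        exact this.symm
      have hmemU : p Q' ∈ U.1 := by
        rw [Scheme.Hom.comp_apply, ← SetLike.mem_coe, ← U.2.range_fromSpec]
        exact ⟨_, rfl⟩
      have h1 : q (p Q') ∈ D ↔ p Q' ∈ Q.basicOpen a := by
        rw [← AlmostBlow.awayFrom_inf_eq_basicOpen he, ← e]
        exact ⟨fun h => ⟨h, hmemU⟩, fun h => h.1⟩
      rw [h1, Scheme.Hom.comp_apply]
      show Spec.map (CommRingCat.ofHom ψ) Q' ∈ U.2.fromSpec ⁻¹ᵁ Q.basicOpen a ↔ _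
      rw [U.2.fromSpec_preimage_basicOpen]
      exact hint Q'.asIdeal Q'.isPrime
    obtain ⟨g, hg⟩ := Spec.map_surjective (p ≫ q)
    have hgq : ∀ Q', Spec.map g Q' = q (p Q') := fun Q' => by rw [hg, Scheme.Hom.comp_apply]
    let η : Spec (CommRingCat.of V) := ⟨⊥, Ideal.isPrime_bot⟩
    have hgη : f ∉ (Spec.map g η).asIdeal := by rw [← hD, hgq]; exact (hpD η).2 rfl
    have hgc : ¬ IsUnit (g.hom f) := by
      intro hu
      refine hy ?_
      rw [← hclosed, ← hgq, hD]
      exact fun h => (IsLocalRing.mem_maximalIdeal _).1 h hu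
    have hrad : ∀ a' : V, a' ≠ 0 → g.hom f ∈ (Ideal.span {a'}).radical := by
      intro a' ha'
      rw [Ideal.radical_eq_sInf, Submodule.mem_sInf]
      rintro J ⟨hJ, hJp⟩
      by_contra hfJ
      have h1 : q (p ⟨J, hJp⟩) ∈ D := by rw [← hgq, hD]; exact hfJ
      have h2 : J = ⊥ := (hpD ⟨J, hJp⟩).1 h1
      exact ha' (Ideal.mem_bot.1 (h2 ▸ hJ (Ideal.mem_span_singleton_self a')))
    have hle : m ≤ (Spec.map g η).asIdeal := by
      intro a' ha'
      by_contra hne
      have hga : g.hom a' ≠ 0 := hne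
      obtain ⟨N, hN⟩ := hrad _ hga
      obtain ⟨r, hr⟩ := Ideal.mem_span_singleton'.1 hN
      obtain ⟨c, -, hc⟩ := hdiv a' ha' (N + 1)
      refine hgc (IsUnit.of_mul_eq_one (r * g.hom c) ?_)
      have hf0 : g.hom f ≠ 0 := hgη
      refine mul_left_cancel₀ (pow_ne_zero N hf0) ?_
      rw [mul_one]
      calc g.hom f ^ N * (g.hom f * (r * g.hom c)) = r * g.hom (f ^ (N + 1) * c) := by
            rw [map_mul, map_pow]; ring
        _ = g.hom f ^ N := by rw [← hc, hr]
    refine ⟨p η, ?_, ?_⟩
    · rw [← hgq]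
      exact PrimeSpectrum.ext (le_antisymm (hmax _ hgη) hle)
    · rw [← hclosed]
      exact (IsLocalRing.specializes_closedPoint η).map p.continuous
  haveI : LocallyQuasiFinite q := LocallyQuasiFinite.of_finite_preimage_singleton q fun x => by
    by_cases hx : x ∈ D
    · exact hfibD x hx
    have hsub : q ⁻¹' {x} ⊆ ⋃ z ∈ q ⁻¹' {mP}, {y : Q | z ⤳ y ∧ q y = x} := by
      intro y hy
      obtain ⟨z, hz, hzy⟩ := hcover y (by rw [show q y = x from hy]; exact hx)
      exact Set.mem_biUnion (show z ∈ q ⁻¹' {mP} from hz) ⟨hzy, hy⟩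
    refine ((hfibD mP ((hD mP).2 hfm)).biUnion fun z hz => ?_).subset hsub
    have hxf : f ∈ x.asIdeal := by
      by_contra h
      exact hx ((hD x).2 h)
    have hmx : m ≤ x.asIdeal := fun a ha => by
      obtain ⟨c, -, rfl⟩ := hdiv a ha 1
      rw [pow_one]
      exact Ideal.mul_mem_right _ _ hxf
    have hzm : q z = mP := hz
    have hsp : q z ⤳ x := hzm ▸ (PrimeSpectrum.le_iff_specializes mP x).1 hmx
    have hfinz : (q.residueFieldMap z).hom.Finite := by
      have hzD : z ∈ q ⁻¹ᵁ D := by show q z ∈ D; rw [hzm]; exact (hD mP).2 hfm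
      haveI : LocallyQuasiFinite ((q ⁻¹ᵁ D).ι ≫ q) := by
        rw [← morphismRestrict_ι]; infer_instance
      have h := Weighting.finite_residueFieldMap ((q ⁻¹ᵁ D).ι ≫ q) ⟨z, hzD⟩
      rw [Scheme.residueFieldMap_comp] at h
      haveI : IsIso ((q ⁻¹ᵁ D).ι.residueFieldMap ⟨z, hzD⟩) := inferInstance
      let e := (asIso ((q ⁻¹ᵁ D).ι.residueFieldMap ⟨z, hzD⟩)).commRingCatIsoToRingEquiv
      have h' : (e.toRingHom.comp (q.residueFieldMap ((q ⁻¹ᵁ D).ι ⟨z, hzD⟩)).hom).Finite := h
      have h'' := RingHom.Finite.comp (RingHom.Finite.of_surjective e.symm.toRingHom e.symm.surjective) h'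
      rw [← RingHom.comp_assoc, RingEquiv.symm_toRingHom_comp_toRingHom, RingHom.id_comp] at h''
      exact h''
    refine finite_specializations q z hfinz x hsp ?_
    -- the image of the local ring at `x` in the residue field at the closed point of the interior
    revert hsp
    rw [hzm]
    intro hsp k
    let φ : A →+* (Spec A).residueField mP :=
      ((Scheme.ΓSpecIso A).inv ≫ (Spec A).presheaf.germ ⊤ mP trivial ≫ (Spec A).residue mP).hom
    have hφr : ∀ c, φ c ∈ ((Spec A).presheaf.stalkSpecializes hsp ≫ (Spec A).residue mP).hom.range := fun c =>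
      ⟨((Scheme.ΓSpecIso A).inv ≫ (Spec A).presheaf.germ ⊤ x trivial) c, by
        simp only [φ, ← ConcreteCategory.comp_apply]
        rw [Category.assoc, TopCat.Presheaf.germ_stalkSpecializes_assoc]⟩
    have hφ : ∀ c, φ c = (Scheme.Spec.residueFieldIso A mP).inv (algebraMap A mP.asIdeal.ResidueField c) := fun c =>
      (ConcreteCategory.congr_hom (Scheme.Spec.algebraMap_residueFieldIso_inv A mP) c).symm
    obtain ⟨k, rfl⟩ := (Scheme.Spec.residueFieldIso A mP).commRingCatIsoToRingEquiv.symm.surjective k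
    obtain ⟨b, s, hs, hbs⟩ := IsFractionRing.div_surjective (A := A ⧸ m) k
    obtain ⟨b, rfl⟩ := Ideal.Quotient.mk_surjective b
    obtain ⟨s, rfl⟩ := Ideal.Quotient.mk_surjective s
    let e := (Scheme.Spec.residueFieldIso A mP).commRingCatIsoToRingEquiv.symm
    have hk : e k = φ b / φ s := by
      rw [hφ, hφ, ← hbs]
      exact map_div₀ e _ _
    show e k ∈ _ ∨ (e k)⁻¹ ∈ _
    rw [hk, inv_div]
    have hker : ∀ c ∈ m, φ c = 0 := fun c hc => by
      rw [hφ, (Ideal.algebraMap_residueField_eq_zero).2 hc]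
      exact map_zero e
    by_cases hb : φ b = 0
    · left; rw [hb, zero_div]; exact zero_mem _
    have hs' : φ s ≠ 0 := fun h => by
      rw [hφ, show (Scheme.Spec.residueFieldIso A mP).inv (algebraMap A mP.asIdeal.ResidueField s) =
        e (algebraMap A mP.asIdeal.ResidueField s) from rfl, map_eq_zero] at h
      exact nonZeroDivisors.ne_zero hs (Ideal.Quotient.eq_zero_iff_mem.2 (Ideal.algebraMap_residueField_eq_zero.1 h))
    rcases hratio b s with ⟨c, hc⟩ | ⟨c, hc⟩
    · left
      have := hker _ hc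
      rw [map_sub, map_mul, sub_eq_zero] at this
      rw [this, mul_div_assoc, div_self hs', mul_one]
      exact hφr c
    · right
      have := hker _ hc
      rw [map_sub, map_mul, sub_eq_zero] at this
      rw [this, mul_div_assoc, div_self hb, mul_one]
      exact hφr c
  exact IsFinite.of_isProper_of_locallyQuasiFinite q

end Groth.Agent.ModPairVal
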